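import Cfsg.Agent.Lib.SU.HermAut
import Mathlib

/-!
# Similitudes of the norm form of a quadratic extension in characteristic two are semilinear
-/

set_option autoImplicit false

namespace CfsgLib.PGroup.UnitalAut

open CfsgLib.SU.HermAut

variable {F : Type*} [Field F] [CharP F 2] [Finite F] (bar : F →+* F)
variable (hbb : ∀ x, bar (bar x) = x) (hne : ∃ x, bar x ≠ x)
include hbb hne

theorem exists_semilinear (L l : F → F) (hLadd : ∀ a b, L (a + b) = L a + L b)
    (hLinj : Function.Injective L)
    (hladd : ∀ a b, bar a = a → bar b = b → l (a + b) = l a + l b)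
    (hN : ∀ a, nm bar (L a) = l (nm bar a)) :
    ∃ σ : F ≃+* F, ∀ a, L a = L 1 * σ a := by
  have hL0 : L 0 = 0 := by
    have := hLadd 0 0
    rw [add_zero] at this
    exact left_eq_add.1 this
  set u := L 1 with hudef
  have hu : u ≠ 0 := fun h => one_ne_zero (hLinj (h.trans hL0.symm))
  have hnu : nm bar u ≠ 0 := nm_ne_zero bar hu
  let M : F → F := fun x => L x / u
  let s : F → F := fun z => l z / nm bar u
  have hMadd : ∀ a b, M (a + b) = M a + M b := fun a b => by simp only [M, hLadd, add_div]
  have hM1 : M 1 = 1 := div_self hu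
  have hMinj : Function.Injective M := fun a b h => hLinj ((div_left_inj' hu).1 h)
  have hMsurj : Function.Surjective M := Finite.surjective_of_injective hMinj
  have hM0 : M 0 = 0 := by simp [M, hL0]
  have hMN : ∀ x, nm bar (M x) = s (nm bar x) := by
    intro x
    show nm bar (L x / u) = l (nm bar x) / nm bar u
    rw [← hN, div_eq_mul_inv, nm_mul, div_eq_mul_inv]
    congr 1
    simp only [nm, map_inv₀, mul_inv]
  have hbN : ∀ x, bar (nm bar x) = nm bar x := bar_nm bar hbb hne
  have hsadd : ∀ a b, bar a = a → bar b = b → s (a + b) = s a + s b := fun a b ha hb => by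
    simp only [s, hladd a b ha hb, add_div]
  have hs0 : s 0 = 0 := by
    have := hsadd 0 0 (map_zero _) (map_zero _)
    rw [add_zero] at this
    exact left_eq_add.1 this
  have hs1 : s 1 = 1 := by
    have := hMN 1
    simpa [nm, hM1] using this.symm
  have hB : ∀ x y, M x * bar (M y) + bar (M x) * M y = s (x * bar y + bar x * y) := by
    intro x y
    have hxy : bar (x * bar y + bar x * y) = x * bar y + bar x * y := by
      simp only [map_add, map_mul, hbb]; ring
    have h := hMN (x + y)
    rw [hMadd, nm_add, nm_add, hsadd _ _ (by rw [map_add, hbN, hbN]) hxy, hsadd _ _ (hbN x) (hbN y),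
      ← hMN, ← hMN] at h
    exact add_left_cancel h
  have htr : ∀ x, M x + bar (M x) = s (x + bar x) := fun x => by
    have := hB x 1
    simpa [hM1] using this
  have hMK : ∀ a, bar a = a → bar (M a) = M a := fun a ha => by
    have h := htr a
    rw [ha, CharTwo.add_self_eq_zero, hs0] at h
    exact (eq_of_add_eq_zero' h).symm
  obtain ⟨w, hw⟩ := exists_trace_one bar hbb hne
  have hsmul : ∀ a b, bar a = a → bar b = b → M a * s b = s (a * b) := by
    intro a b ha hb
    have hwb : b * w + bar (b * w) = b := by rw [map_mul, hb, ← mul_add, hw, mul_one]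
    have h := hB a (b * w)
    rw [hMK a ha, ha, ← mul_add, ← mul_add, add_comm (bar (M (b * w))), add_comm (bar (b * w)),
      htr, hwb] at h
    exact h
  have hMs : ∀ a, bar a = a → M a = s a := fun a ha => by
    have := hsmul a 1 ha (map_one _)
    rwa [hs1, mul_one, mul_one] at this
  have hsm : ∀ a b, bar a = a → bar b = b → s (a * b) = s a * s b := fun a b ha hb => by
    rw [← hsmul a b ha hb, hMs a ha]
  -- semilinearity over the fixed field
  have hnd : ∀ D, (∀ y, D * bar y + bar D * y = 0) → D = 0 := by
    intro D hD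
    by_contra h0
    obtain ⟨e, he⟩ := hne
    have h1 := hD 1
    rw [map_one, mul_one, mul_one] at h1
    have h1' : bar D = D := (eq_of_add_eq_zero' h1).symm
    have h2 := hD e
    rw [h1', ← mul_add, mul_eq_zero] at h2
    exact he (eq_of_add_eq_zero' (h2.resolve_left h0))
  have hMk : ∀ k x, bar k = k → M (k * x) = M k * M x := by
    intro k x hk
    refine eq_of_add_eq_zero' (hnd _ fun y => ?_)
    obtain ⟨y, rfl⟩ := hMsurj y
    have h1 := hB (k * x) y
    have h2 := hB x y
    have hxy : bar (x * bar y + bar x * y) = x * bar y + bar x * y := by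
      simp only [map_add, map_mul, hbb]; ring
    rw [show k * x * bar y + bar (k * x) * y = k * (x * bar y + bar x * y) by rw [map_mul, hk]; ring,
      hsm _ _ hk hxy, ← h2] at h1
    rw [map_add, map_mul, hMK k hk]
    linear_combination h1 + (s k * (M x * bar (M y) + bar (M x) * M y)) * (CharTwo.two_eq_zero : (2 : F) = 0)
      + (M x * bar (M y) + bar (M x) * M y) * hMs k hk
  -- the square of an element of trace one
  have hw2 : w * w = w + nm bar w := by
    have : bar w = w + 1 := by rw [← hw, ← add_assoc, CharTwo.add_self_eq_zero, zero_add]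
    rw [nm, this]
    linear_combination (-w) * (CharTwo.two_eq_zero : (2 : F) = 0)
  have hMw : M (w * w) = M w * M w := by
    have h1 : M w + bar (M w) = 1 := by rw [htr, hw, hs1]
    have h2 : bar (M w) = M w + 1 := by rw [← h1, ← add_assoc, CharTwo.add_self_eq_zero, zero_add]
    rw [hw2, hMadd, hMs _ (hbN w), ← hMN, nm, h2]
    linear_combination (M w) * (CharTwo.two_eq_zero : (2 : F) = 0)
  have hdec : ∀ x, ∃ a b, bar a = a ∧ bar b = b ∧ x = a + b * w := fun x => by
    refine ⟨x + (x + bar x) * w, x + bar x, ?_, by rw [map_add, hbb, add_comm], ?_⟩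
    · have : bar w = w + 1 := by rw [← hw, ← add_assoc, CharTwo.add_self_eq_zero, zero_add]
      rw [map_add, map_mul, map_add, hbb, this]
      linear_combination (bar x) * (CharTwo.two_eq_zero : (2 : F) = 0)
    · linear_combination (-((x + bar x) * w)) * (CharTwo.two_eq_zero : (2 : F) = 0)
  have hmul : ∀ x y, M (x * y) = M x * M y := by
    intro x y
    obtain ⟨a, b, ha, hb, rfl⟩ := hdec x
    obtain ⟨c, d, hc, hd, rfl⟩ := hdec y
    have hp : ∀ p q, bar p = p → bar q = q → bar (p * q) = p * q := fun p q h h' => by rw [map_mul, h, h']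
    rw [show (a + b * w) * (c + d * w) = a * c + (a * d) * w + (b * c) * w + (b * d) * (w * w) by ring,
      hMadd, hMadd, hMadd, hMadd, hMadd, hMk b w hb, hMk d w hd, hMk a c ha, hMk _ w (hp a d ha hd),
      hMk _ w (hp b c hb hc), hMk _ (w * w) (hp b d hb hd), hMw, hMk a d ha, hMk b c hb, hMk b d hb]
    ring
  refine ⟨RingEquiv.ofBijective
    (RingHom.mk' ⟨⟨M, hM1⟩, hmul⟩ hMadd : F →+* F) ⟨hMinj, hMsurj⟩, fun a => ?_⟩
  exact (mul_div_cancel₀ (L a) hu).symm

end CfsgLib.PGroup.UnitalAut
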