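import Cfsg.Agent.Lib.SU.UnitalModel
import Cfsg.Agent.Lib.PGroup.UnitalAut.Semilinear
import Cfsg.Agent.Lib.EqualOrder.Linear
import Cfsg.Agent.Lib.Coprime.Core
import Mathlib
import Cfsg.Prelude

/-!
# The automorphism group of the Sylow 2-subgroup of `SU₃(2ⁿ)`
-/

set_option autoImplicit false

namespace CfsgLib.PGroup.UnitalAut

open CfsgLib.SU CfsgLib.SU.HermAut

variable {T : Type*} [Group T] [Finite T] {F : Type*} [Field F] [CharP F 2] [Finite F] (U : Unital T F)

/-- The fixed field, as an additive group. -/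
def fix : AddSubgroup F where
  carrier := {k | U.bar k = k}
  zero_mem' := map_zero _
  add_mem' := fun {a b} (ha : U.bar a = a) (hb : U.bar b = b) => by
    show U.bar (a + b) = a + b
    rw [map_add, ha, hb]
  neg_mem' := fun {a} (ha : U.bar a = a) => by
    show U.bar (-a) = -a
    rw [map_neg, ha]

theorem exists_aut (p t : T → F) (hc : ∀ x, t x + U.bar (t x) + nm U.bar (p x) = 0)
    (hp : ∀ x y, p (x * y) = p x + p y) (ht : ∀ x y, t (x * y) = t x + t y + p y * U.bar (p x))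
    (hi : ∀ x y, p x = p y → t x = t y → x = y) :
    ∃ α : MulAut T, ∀ x, U.pi (α x) = p x ∧ U.tau (α x) = t x := by
  choose f hf hf' using fun x => U.exists_coord (p x) (t x) (hc x)
  have hmul : ∀ x y, f (x * y) = f x * f y := fun x y => U.coord_ext _ _
    (by rw [U.pi_mul, hf, hf, hf, hp]) (by rw [U.tau_mul, hf', hf', hf', hf, hf, ht])
  have hinj : Function.Injective f := fun x y h => hi x y (by rw [← hf, ← hf, h]) (by rw [← hf', ← hf', h])
  exact ⟨MulEquiv.ofBijective (MonoidHom.mk' f hmul) ⟨hinj, Finite.surjective_of_injective hinj⟩,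
    fun x => ⟨hf x, hf' x⟩⟩

theorem exists_kaut (lam : F →+ fix U) :
    ∃ α : MulAut T, ∀ x, U.pi (α x) = U.pi x ∧ U.tau (α x) = U.tau x + lam (U.pi x) := by
  refine exists_aut U U.pi _ (fun x => ?_) U.pi_mul (fun x y => ?_) (fun x y h h' => ?_)
  · have h1 := U.cond x
    have h2 : U.bar (lam (U.pi x) : F) = lam (U.pi x) := (lam (U.pi x)).2
    rw [map_add, h2]
    linear_combination h1 + (lam (U.pi x) : F) * (CharTwo.two_eq_zero : (2 : F) = 0)
  · rw [U.tau_mul, U.pi_mul, map_add, AddSubgroup.coe_add]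
    ring
  · rw [h] at h'
    exact U.coord_ext x y h (add_right_cancel h')

variable (hcomm : ∀ (σ : F ≃+* F) (x : F), σ (U.bar x) = U.bar (σ x))
include hcomm

theorem exists_saut (c : Fˣ) (σ : F ≃+* F) :
    ∃ α : MulAut T, ∀ x, U.pi (α x) = c * σ (U.pi x) ∧ U.tau (α x) = nm U.bar c * σ (U.tau x) := by
  refine exists_aut U _ _ (fun x => ?_) (fun x y => ?_) (fun x y => ?_) (fun x y h h' => ?_)
  · have h1 := congrArg (fun z => nm U.bar c * σ z) (U.cond x)
    simp only [map_zero, mul_zero, map_add, nm, map_mul, hcomm, mul_add] at h1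
    simp only [nm, map_mul, U.bar_bar]
    linear_combination h1
  · rw [U.pi_mul, map_add, mul_add]
  · rw [U.tau_mul, map_add, map_add, map_mul, hcomm, map_mul, nm]
    ring
  · exact U.coord_ext x y (σ.injective (mul_left_cancel₀ c.ne_zero h))
      (σ.injective (mul_left_cancel₀ (nm_ne_zero U.bar c.ne_zero) h'))

omit hcomm

/-- Automorphisms trivial on `T / Z(T)`. -/
def kern : Subgroup (MulAut T) where
  carrier := {α | ∀ x, U.pi (α x) = U.pi x}
  one_mem' := fun x => rfl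
  mul_mem' := fun {a b} (ha : ∀ x, _ = _) (hb : ∀ x, _ = _) x => (ha (b x)).trans (hb x)
  inv_mem' := fun {a} (ha : ∀ x, _ = _) x => by
    have := ha (a⁻¹ x)
    rw [MulAut.apply_inv_self] at this
    exact this.symm

theorem mem_kern {α : MulAut T} : α ∈ kern U ↔ ∀ x, U.pi (α x) = U.pi x := Iff.rfl

theorem kern_iff {α : MulAut T} : α ∈ kern U ↔ ∀ a, U.lmap α a = a := by
  refine ⟨fun h a => ?_, fun h x => by rw [U.pi_apply, h]⟩
  obtain ⟨x, rfl⟩ := U.exists_pi a
  rw [← U.pi_apply, h x]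

theorem lmap_mul (α β : MulAut T) (a : F) : U.lmap (α * β) a = U.lmap α (U.lmap β a) := by
  obtain ⟨x, rfl⟩ := U.exists_pi a
  rw [← U.pi_apply, ← U.pi_apply, ← U.pi_apply]
  rfl

theorem lmap_one (a : F) : U.lmap (1 : MulAut T) a = a := by
  obtain ⟨x, rfl⟩ := U.exists_pi a
  exact (U.pi_apply 1 x).symm

theorem lmap_inj (α : MulAut T) : Function.Injective (U.lmap α) := fun a b h => by
  have := congrArg (U.lmap α⁻¹) h
  rwa [← lmap_mul, ← lmap_mul, inv_mul_cancel, lmap_one, lmap_one] at this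

theorem fix_of_kern {α : MulAut T} (h : α ∈ kern U) {z : T} (hz : U.pi z = 0) : α z = z := by
  refine U.coord_ext _ _ ((U.pi_apply_zero α hz).trans hz.symm) ?_
  obtain ⟨a, ha⟩ := exists_nm U.bar U.bar_bar U.exists_ne (U.tau_fixed hz)
  obtain ⟨x, rfl⟩ := U.exists_pi a
  have e : z = x * x := U.coord_ext _ _ (by rw [hz, U.pi_mul_self]) (by rw [U.tau_mul_self, ha])
  rw [e, map_mul, U.tau_mul_self, U.tau_mul_self, h x]

theorem exists_lam {α : MulAut T} (h : α ∈ kern U) :
    ∃ lam : F →+ fix U, ∀ x, U.tau (α x) = U.tau x + lam (U.pi x) := by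
  have hd : ∀ x, U.tau (α x) + U.tau x ∈ fix U := fun x => by
    show U.bar (U.tau (α x) + U.tau x) = U.tau (α x) + U.tau x
    have h1 := U.cond x
    have h2 := U.cond (α x)
    rw [h x] at h2
    rw [map_add]
    linear_combination h1 + h2 + (-(U.tau (α x)) - U.tau x - nm U.bar (U.pi x)) *
      (CharTwo.two_eq_zero : (2 : F) = 0)
  have hadd : ∀ x y, U.tau (α (x * y)) + U.tau (x * y) = (U.tau (α x) + U.tau x) + (U.tau (α y) + U.tau y) := by
    intro x y
    rw [map_mul, U.tau_mul, U.tau_mul, h x, h y]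
    linear_combination (U.pi y * U.bar (U.pi x)) * (CharTwo.two_eq_zero : (2 : F) = 0)
  have hwd : ∀ x y, U.pi x = U.pi y → U.tau (α x) + U.tau x = U.tau (α y) + U.tau y := by
    intro x y hxy
    have hz : U.pi (x * y) = 0 := by rw [U.pi_mul, hxy, CharTwo.add_self_eq_zero]
    have h1 := hadd x y
    rw [fix_of_kern U h hz, CharTwo.add_self_eq_zero] at h1
    exact eq_of_add_eq_zero' h1.symm
  choose g hg using U.exists_pi
  refine ⟨AddMonoidHom.mk' (fun a => ⟨_, hd (g a)⟩) (fun a b => Subtype.ext ?_), fun x => ?_⟩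
  · show U.tau (α (g (a + b))) + U.tau (g (a + b)) = (U.tau (α (g a)) + U.tau (g a)) + (U.tau (α (g b)) + U.tau (g b))
    rw [← hadd]
    exact hwd _ _ (by rw [hg, U.pi_mul, hg, hg])
  · show U.tau (α x) = U.tau x + (U.tau (α (g (U.pi x))) + U.tau (g (U.pi x)))
    rw [hwd (g (U.pi x)) x (hg _), add_comm (U.tau x), add_assoc, CharTwo.add_self_eq_zero, add_zero]

theorem kern_elementary : Cfsg.IsElementaryAbelian 2 (kern U) := by
  refine ⟨⟨⟨fun a b => ?_⟩⟩, fun a ha => ?_⟩
  · obtain ⟨l1, h1⟩ := exists_lam U a.2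
    obtain ⟨l2, h2⟩ := exists_lam U b.2
    refine Subtype.ext (MulEquiv.ext fun x => U.coord_ext _ _ ?_ ?_)
    · show U.pi ((a : MulAut T) ((b : MulAut T) x)) = U.pi ((b : MulAut T) ((a : MulAut T) x))
      rw [a.2, b.2, b.2, a.2]
    · show U.tau ((a : MulAut T) ((b : MulAut T) x)) = U.tau ((b : MulAut T) ((a : MulAut T) x))
      rw [h1, h2, h2, h1, b.2, a.2, add_right_comm]
  · obtain ⟨l1, h1⟩ := exists_lam U ha
    rw [pow_two]
    refine MulEquiv.ext fun x => U.coord_ext _ _ ?_ ?_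
    · show U.pi (a (a x)) = U.pi x
      rw [ha, ha]
    · show U.tau (a (a x)) = U.tau x
      rw [h1, h1, ha, add_assoc, CharTwo.add_self_eq_zero, add_zero]

theorem kern_normal : (kern U).Normal := ⟨fun a ha g => by
  rw [kern_iff] at ha ⊢
  intro x
  rw [lmap_mul, lmap_mul, ha, ← lmap_mul, mul_inv_cancel, lmap_one]⟩

theorem exists_form (α : MulAut T) : ∃ (c : Fˣ) (σ : F ≃+* F), ∀ a, U.lmap α a = c * σ a := by
  obtain ⟨σ, hσ⟩ := exists_semilinear U.bar U.bar_bar U.exists_ne (U.lmap α) (U.zmap α) (U.lmap_add α)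
    (lmap_inj U α) (U.zmap_add α) (U.nm_lmap α)
  have h1 : U.lmap α 1 ≠ 0 := fun h => by
    have h0 := U.lmap_add α 0 0
    rw [add_zero] at h0
    exact one_ne_zero (lmap_inj U α (h.trans (left_eq_add.1 h0).symm))
  exact ⟨Units.mk0 _ h1, σ, hσ⟩

theorem eq_one_of_two_pow {e : F} {k : ℕ} (h : e ^ 2 ^ k = 1) : e = 1 := by
  haveI : Fact (Nat.Prime 2) := ⟨Nat.prime_two⟩
  exact iterateFrobenius_inj F 2 k (by simp [iterateFrobenius_def, h])

theorem lmap_scalar_pow {α : MulAut T} {e : F} (h : ∀ a, U.lmap α a = e * a) (m : ℕ) (a : F) :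
    U.lmap (α ^ m) a = e ^ m * a := by
  induction m generalizing a with
  | zero => rw [pow_zero, pow_zero, lmap_one, one_mul]
  | succ m ih => rw [pow_succ, lmap_mul, h, ih, pow_succ, mul_assoc]

include hcomm

theorem pCore_eq : Cfsg.pCore 2 (MulAut T) = kern U := by
  haveI : Fact (Nat.Prime 2) := ⟨Nat.prime_two⟩
  haveI := kern_normal U
  have hp : IsPGroup 2 (kern U) := fun a => ⟨1, Subtype.ext (by
    rw [pow_one, Subgroup.coe_pow]; exact (kern_elementary U).2 _ a.2)⟩
  refine le_antisymm (fun g hg => ?_) (Coprime.le_pCore hp)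
  haveI := Coprime.pCore_normal' (G := MulAut T) 2
  have hP := Coprime.pCore_isPGroup (G := MulAut T) 2
  obtain ⟨c, σ, hσ⟩ := exists_form U g
  have hpow : ∀ x ∈ Cfsg.pCore 2 (MulAut T), ∀ e : F, (∀ a, U.lmap x a = e * a) → e = 1 := by
    intro x hx e he
    obtain ⟨k, hk⟩ := hP ⟨x, hx⟩
    have hk' : x ^ 2 ^ k = 1 := congrArg Subtype.val hk
    have h1 := lmap_scalar_pow U he (2 ^ k) 1
    rw [hk', lmap_one, mul_one] at h1
    exact eq_one_of_two_pow h1.symm
  have hσ1 : ∀ d : F, σ d = d := by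
    intro d
    rcases eq_or_ne d 0 with rfl | hd
    · exact map_zero σ
    obtain ⟨h, hh⟩ := exists_saut U hcomm (Units.mk0 d hd) (RingEquiv.refl F)
    have hhl : ∀ a, U.lmap h a = d * a := fun a => by
      obtain ⟨x, rfl⟩ := U.exists_pi a
      rw [← U.pi_apply, (hh x).1]; rfl
    have hhi : ∀ a, U.lmap h⁻¹ a = d⁻¹ * a := fun a => by
      apply lmap_inj U h
      rw [← lmap_mul, mul_inv_cancel, lmap_one, hhl, mul_inv_cancel_left₀ hd]
    have hgi : ∀ a, U.lmap g⁻¹ a = σ.symm ((c : F)⁻¹ * a) := fun a => by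
      apply lmap_inj U g
      rw [← lmap_mul, mul_inv_cancel, lmap_one, hσ, σ.apply_symm_apply, mul_inv_cancel_left₀ c.ne_zero]
    have hmem : h * g * h⁻¹ * g⁻¹ ∈ Cfsg.pCore 2 (MulAut T) :=
      mul_mem (Subgroup.Normal.conj_mem inferInstance g hg h) (inv_mem hg)
    have h1 := hpow _ hmem (d * σ d⁻¹) fun a => by
      rw [lmap_mul, lmap_mul, lmap_mul, hgi, hhi, hσ, hhl, map_mul, σ.apply_symm_apply]
      field_simp
    rw [map_inv₀, mul_inv_eq_one₀ ((map_ne_zero σ).2 hd)] at h1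
    exact h1.symm
  have hc1 := hpow g hg c fun a => by rw [hσ, hσ1]
  exact (kern_iff U).2 fun a => by rw [hσ, hσ1, hc1, one_mul]

omit hcomm

theorem card_kern : Nat.card (kern U) = Nat.card (F →+ fix U) := by
  choose E hE using exists_kaut U
  symm
  refine Nat.card_eq_of_bijective (fun lam => (⟨E lam, fun x => (hE lam x).1⟩ : kern U)) ⟨?_, ?_⟩
  · intro l l' h
    refine AddMonoidHom.ext fun a => ?_
    obtain ⟨x, rfl⟩ := U.exists_pi a
    refine Subtype.ext (add_left_cancel (a := U.tau x) ?_)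
    rw [← (hE l x).2, ← (hE l' x).2, show E l = E l' from congrArg Subtype.val h]
  · intro α
    obtain ⟨l, hl⟩ := exists_lam U α.2
    exact ⟨l, Subtype.ext (MulEquiv.ext fun x => U.coord_ext _ _ ((hE l x).1.trans (α.2 x).symm)
      ((hE l x).2.trans (hl x).symm))⟩

include hcomm

theorem card_aut : Nat.card (MulAut T) = Nat.card (kern U) * (Nat.card Fˣ * Nat.card (F ≃+* F)) := by
  rw [← Nat.card_prod, ← Nat.card_prod]
  choose A hA using fun p : Fˣ × (F ≃+* F) => exists_saut U hcomm p.1 p.2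
  have hAl : ∀ p a, U.lmap (A p) a = p.1 * p.2 a := fun p a => by
    obtain ⟨x, rfl⟩ := U.exists_pi a
    rw [← U.pi_apply, (hA p x).1]
  symm
  refine Nat.card_eq_of_bijective (fun q => A q.2 * (q.1 : MulAut T)) ⟨?_, ?_⟩
  · rintro ⟨k, p⟩ ⟨k', p'⟩ h
    have hl : ∀ a, (p.1 : F) * p.2 a = p'.1 * p'.2 a := fun a => by
      have := congrArg (fun g => U.lmap g a) h
      simp only [lmap_mul, (kern_iff U).1 k.2, (kern_iff U).1 k'.2, hAl] at this
      exact this
    have hp : p = p' := by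
      have h1 : (p.1 : F) = p'.1 := by simpa using hl 1
      exact Prod.ext (Units.ext h1) (RingEquiv.ext fun a => mul_left_cancel₀ p'.1.ne_zero (h1 ▸ hl a))
    subst hp
    exact Prod.ext (Subtype.ext (mul_left_cancel h)) rfl
  · intro α
    obtain ⟨c, σ, hσ⟩ := exists_form U α
    refine ⟨⟨⟨(A (c, σ))⁻¹ * α, (kern_iff U).2 fun a => ?_⟩, c, σ⟩, ?_⟩
    · apply lmap_inj U (A (c, σ))
      rw [← lmap_mul, mul_inv_cancel_left, hσ, hAl]
    · exact mul_inv_cancel_left _ _

omit hcomm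

theorem card_hom {n : ℕ} (hF : Nat.card F = 4 ^ n) : Nat.card (F →+ fix U) = 2 ^ (2 * n ^ 2) := by
  haveI : Fact (Nat.Prime 2) := ⟨Nat.prime_two⟩
  letI : Algebra (ZMod 2) F := ZMod.algebra F 2
  haveI : Module.Finite (ZMod 2) F := Module.Finite.of_finite
  have hd : Module.finrank (ZMod 2) F = 2 * n := by
    have h := Module.natCard_eq_pow_finrank (K := ZMod 2) (V := F)
    rw [hF, Nat.card_zmod, show 4 ^ n = 2 ^ (2 * n) by rw [pow_mul]; norm_num] at h
    exact (Nat.pow_right_injective (le_refl 2) h).symm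
  let W : Submodule (ZMod 2) F := (fix U).toZModSubmodule 2
  let b := Module.finBasis (ZMod 2) F
  have e1 : (F →+ W) ≃ (Fin (Module.finrank (ZMod 2) F) → W) :=
    { toFun := fun f i => f (b i)
      invFun := fun v => (b.constr (ZMod 2) v).toAddMonoidHom
      left_inv := fun f => by
        have : b.constr (ZMod 2) (fun i => f (b i)) = f.toZModLinearMap 2 :=
          b.ext fun i => by rw [Module.Basis.constr_basis]; rfl
        refine AddMonoidHom.ext fun x => ?_
        show b.constr (ZMod 2) (fun i => f (b i)) x = f x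
        rw [this]; rfl
      right_inv := fun v => funext fun i => b.constr_basis (ZMod 2) v i }
  have hk : Nat.card (fix U) = 2 ^ n := by
    have h : Nat.card {k : F // U.bar k = k} ^ 2 = Nat.card F := card_fixed_sq U.bar_bar U.exists_ne
    rw [hF, show 4 ^ n = (2 ^ n) ^ 2 by rw [← pow_mul, mul_comm, pow_mul]; norm_num] at h
    exact Nat.pow_left_injective two_ne_zero h
  have e2 : Nat.card (F →+ fix U) = Nat.card (Fin (Module.finrank (ZMod 2) F) → W) := Nat.card_congr e1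
  rw [e2, Nat.card_fun, Nat.card_fin, hd, show Nat.card W = 2 ^ n from hk, ← pow_mul]
  congr 1
  ring

theorem structure_aut {n : ℕ} (hF : Nat.card F = 4 ^ n)
    (hcomm : ∀ (σ : F ≃+* F) (x : F), σ (U.bar x) = U.bar (σ x)) :
    Cfsg.IsElementaryAbelian 2 (Cfsg.pCore 2 (MulAut T)) ∧
      Nat.card (Cfsg.pCore 2 (MulAut T)) = 2 ^ (2 * n ^ 2) ∧
      Nat.card (MulAut T) = 2 ^ (2 * n ^ 2) * (2 * n * ((2 ^ n) ^ 2 - 1)) := by
  haveI : Fact (Nat.Prime 2) := ⟨Nat.prime_two⟩
  rw [pCore_eq U hcomm, card_aut U hcomm, card_kern, card_hom U hF]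
  refine ⟨kern_elementary U, rfl, ?_⟩
  rw [CfsgLib.EqualOrder.card_galoisAut 2 (n := 2 * n) (by rw [hF, pow_mul]; norm_num), Nat.card_units, hF,
    show 4 ^ n = (2 ^ n) ^ 2 by rw [← pow_mul, mul_comm, pow_mul]; norm_num, mul_comm (_ - 1)]

end CfsgLib.PGroup.UnitalAut
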